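import Cfsg.Agent.H440.TwoGen.Basic
import Cfsg.Agent.H384.TwoTrans

/-!
# TEAM GEN: interface for S3565 (helper891)

`S3565`: every finite 2-homogeneous group is generated by two elements.  The pieces:

* `Lift N x y` : the pair `(x, y)` can be corrected by elements of `N` so as to generate at least `N`;
* `ASRows` : the almost simple 2-transitive groups (HUB H1, `H384.TwoTrans.Known2`), one field per constructor;
* `AffGood H` : the linear group `H` (transitive on the nonzero vectors) has a generating pair which extends to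
  a generating pair of the affine group;
* `AffRows` : the transitive linear groups (Hering, S3695), one field per case.
-/

set_option autoImplicit false

namespace Cfsg.Agent.H891.Gen

open Cfsg.Agent.H440.TwoGen Cfsg.Agent.H384.TwoTrans Subgroup

universe u v w

/-! ### lifting pairs -/

section Lift

variable {G : Type u} [Group G]

/-- the pair `(x, y)` can be corrected by elements of `N` so as to generate at least `N` -/
def Lift (N : Subgroup G) (x y : G) : Prop := ∃ s ∈ N, ∃ t ∈ N, N ≤ closure ({x * s, y * t} : Set G)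

theorem Lift.symm {N : Subgroup G} {x y : G} (h : Lift N x y) : Lift N y x := by
  obtain ⟨s, hs, t, ht, h⟩ := h
  exact ⟨t, ht, s, hs, by rwa [Set.pair_comm]⟩

/-- If `x`, `y` generate `G` modulo `N` and the pair lifts then `G` is 2-generated. -/
theorem twoGen_of_lift {N : Subgroup G} {x y : G} (hxy : closure ({x, y} : Set G) ⊔ N = ⊤) (h : Lift N x y) :
    TwoGen G := by
  obtain ⟨s, hs, t, ht, h⟩ := h
  refine ⟨x * s, y * t, ?_⟩
  rw [← top_le_iff, ← hxy]
  refine sup_le ?_ h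
  rw [closure_le]
  have h1 : x * s ∈ closure ({x * s, y * t} : Set G) := subset_closure (by simp)
  have h2 : y * t ∈ closure ({x * s, y * t} : Set G) := subset_closure (by simp)
  rintro z (rfl | hz)
  · have h3 := mul_mem h1 (inv_mem (h hs))
    rwa [mul_inv_cancel_right] at h3
  · rw [Set.mem_singleton_iff] at hz
    subst hz
    have h3 := mul_mem h2 (inv_mem (h ht))
    rwa [mul_inv_cancel_right] at h3

/-- The same for a subgroup `H` with `N ≤ H` (all elements in the big group `G`). -/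
theorem twoGen_of_lift' {N H : Subgroup G} (hNH : N ≤ H) {x y : G} (hx : x ∈ H) (hy : y ∈ H)
    (hxy : H ≤ closure ({x, y} : Set G) ⊔ N) (h : Lift N x y) : TwoGen ↥H := by
  refine twoGen_of_lift (N := N.subgroupOf H) (x := ⟨x, hx⟩) (y := ⟨y, hy⟩) ?_ ?_
  · apply Subgroup.map_injective H.subtype_injective
    rw [Subgroup.map_sup, MonoidHom.map_closure, Set.image_pair, Subgroup.subgroupOf_map_subtype,
      inf_eq_left.2 hNH, ← MonoidHom.range_eq_map, Subgroup.range_subtype]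
    refine le_antisymm (sup_le ?_ hNH) hxy
    rw [closure_le]
    rintro z (rfl | hz)
    · exact hx
    · rw [Set.mem_singleton_iff] at hz
      subst hz
      exact hy
  · obtain ⟨s, hs, t, ht, h⟩ := h
    refine ⟨⟨s, hNH hs⟩, mem_subgroupOf.2 hs, ⟨t, hNH ht⟩, mem_subgroupOf.2 ht, ?_⟩
    intro z hz
    have h1 := h (mem_subgroupOf.1 hz)
    have h2 : (closure ({(⟨x, hx⟩ : ↥H) * ⟨s, hNH hs⟩, ⟨y, hy⟩ * ⟨t, hNH ht⟩} : Set ↥H)).map H.subtype =
        closure ({x * s, y * t} : Set G) := by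
      rw [MonoidHom.map_closure, Set.image_pair]
      rfl
    rw [← h2] at h1
    obtain ⟨z', hz', h3⟩ := h1
    have h4 : z' = z := Subtype.ext h3
    exact h4 ▸ hz'

end Lift

/-! ### the almost simple rows -/

/-- The almost simple 2-transitive groups: one field per constructor of `Known2`. -/
structure ASRows : Prop where
  alt : ∀ (G : Type u) (Ω : Type v) [Group G] [MulAction G Ω] (T : Subgroup G), AS G Ω T →
    ∀ n : ℕ, 5 ≤ n → Nonempty (↥T ≃* ↥(alternatingGroup (Fin n))) → TwoGen G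
  psl2 : ∀ (G : Type u) (Ω : Type v) [Group G] [MulAction G Ω] (T : Subgroup G), AS G Ω T →
    ∀ (F : Type) [Field F] [Fintype F], 4 ≤ Fintype.card F →
      Nonempty (↥T ≃* Matrix.ProjectiveSpecialLinearGroup (Fin 2) F) → TwoGen G
  psl : ∀ (G : Type u) (Ω : Type v) [Group G] [MulAction G Ω] (T : Subgroup G), AS G Ω T →
    ∀ (F : Type) [Field F] [Fintype F] (d : ℕ), 3 ≤ d →
      Nonempty (↥T ≃* Matrix.ProjectiveSpecialLinearGroup (Fin d) F) →
      Nat.card Ω * (Fintype.card F - 1) = Fintype.card F ^ d - 1 → TwoGen G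
  psl42 : ∀ (G : Type u) (Ω : Type v) [Group G] [MulAction G Ω] (T : Subgroup G), AS G Ω T →
    ∀ (F : Type) [Field F] [Fintype F], Fintype.card F = 2 →
      Nonempty (↥T ≃* Matrix.ProjectiveSpecialLinearGroup (Fin 4) F) → Nat.card Ω = 8 → TwoGen G
  sp : ∀ (G : Type u) (Ω : Type v) [Group G] [MulAction G Ω] (T : Subgroup G), AS G Ω T →
    ∀ (F : Type) [Field F] [Fintype F] (m : ℕ), Fintype.card F = 2 → 3 ≤ m → Nonempty (↥T ≃* Cfsg.PSp m F) → TwoGen G
  psu : ∀ (G : Type u) (Ω : Type v) [Group G] [MulAction G Ω] (T : Subgroup G), AS G Ω T →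
    ∀ (F : Type) [Field F] [Fintype F] (q : ℕ), 3 ≤ q → Fintype.card F = q ^ 2 → Nonempty (↥T ≃* Cfsg.PSU 3 F q) →
      TwoGen G
  sz : ∀ (G : Type u) (Ω : Type v) [Group G] [MulAction G Ω] (T : Subgroup G), AS G Ω T →
    ∀ (F : Type) [Field F] [Fintype F] (m : ℕ), 1 ≤ m → Fintype.card F = 2 ^ (2 * m + 1) →
      Nonempty (↥T ≃* ↥(Cfsg.Lie.Sz F (2 ^ (m + 1)))) → TwoGen G
  ree : ∀ (G : Type u) (Ω : Type v) [Group G] [MulAction G Ω] (T : Subgroup G), AS G Ω T →
    ∀ (K : Type) [Field K] [Fintype K] (m : ℕ), 1 ≤ m → Fintype.card K = 3 ^ (2 * m + 1) →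
      Nonempty (↥T ≃* ↥(Cfsg.Lie.twistedG2 K (3 ^ m))) → TwoGen G
  m11 : ∀ (G : Type u) (Ω : Type v) [Group G] [MulAction G Ω] (T : Subgroup G), AS G Ω T → Cfsg.Spor.IsoM11 T →
    TwoGen G
  m12 : ∀ (G : Type u) (Ω : Type v) [Group G] [MulAction G Ω] (T : Subgroup G), AS G Ω T → Cfsg.Spor.IsoM12 T →
    Nat.card Ω = 12 → TwoGen G
  m22 : ∀ (G : Type u) (Ω : Type v) [Group G] [MulAction G Ω] (T : Subgroup G), AS G Ω T → Cfsg.Spor.IsoM22 T →
    Nat.card Ω = 22 → TwoGen G
  m23 : ∀ (G : Type u) (Ω : Type v) [Group G] [MulAction G Ω] (T : Subgroup G), AS G Ω T → Cfsg.Spor.IsoM23 T →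
    Nat.card Ω = 23 → TwoGen G
  m24 : ∀ (G : Type u) (Ω : Type v) [Group G] [MulAction G Ω] (T : Subgroup G), AS G Ω T → Cfsg.Spor.IsoM24 T →
    Nat.card Ω = 24 → TwoGen G
  hs : ∀ (G : Type u) (Ω : Type v) [Group G] [MulAction G Ω] (T : Subgroup G), AS G Ω T → Cfsg.Spor.IsoHS T →
    Nat.card Ω = 176 → TwoGen G
  co3 : ∀ (G : Type u) (Ω : Type v) [Group G] [MulAction G Ω] (T : Subgroup G), AS G Ω T → Cfsg.Spor.IsoCo3 T →
    Nat.card Ω = 276 → TwoGen G

/-- Almost simple 2-transitive groups are 2-generated, given HUB H1 and the rows. -/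
theorem ASRows.main (R : ASRows.{u, v}) {G : Type u} {Ω : Type v} [Group G] [MulAction G Ω] {T : Subgroup G}
    (A : AS G Ω T) (hK : Known2 ↥T (Nat.card Ω)) : TwoGen G := by
  generalize hn : Nat.card Ω = n at hK
  cases hK with
  | alt n hn e => exact R.alt G Ω T A _ hn e
  | psl F d n hd hd2 e h =>
      rcases Nat.lt_or_ge d 3 with h3 | h3
      · have h2 : d = 2 := by omega
        subst h2
        exact R.psl2 G Ω T A F (hd2 rfl) e
      · exact R.psl G Ω T A F d h3 e (by rw [hn]; exact h)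
  | sp F m n hF hm e h => exact R.sp G Ω T A F m hF hm e
  | psu F q n hq hF e h => exact R.psu G Ω T A F q hq hF e
  | sz F m n hm hF e h => exact R.sz G Ω T A F m hm hF e
  | ree K m n hm hK e h => exact R.ree G Ω T A K m hm hK e
  | psl2_8 F hF e => exact R.psl2 G Ω T A F (by omega) e
  | psl2_9 F hF e => exact R.psl2 G Ω T A F (by omega) e
  | psl2_11 F hF e => exact R.psl2 G Ω T A F (by omega) e
  | psl4_2 F hF e => exact R.psl42 G Ω T A F hF e hn
  | a7 e => exact R.alt G Ω T A 7 (by norm_num) e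
  | m11 h => exact R.m11 G Ω T A h
  | m11' h => exact R.m11 G Ω T A h
  | m12 h => exact R.m12 G Ω T A h hn
  | m22 h => exact R.m22 G Ω T A h hn
  | m23 h => exact R.m23 G Ω T A h hn
  | m24 h => exact R.m24 G Ω T A h hn
  | hs h => exact R.hs G Ω T A h hn
  | co3 h => exact R.co3 G Ω T A h hn

/-! ### the affine rows -/

section Aff

variable {V : Type u} [AddCommGroup V]

/-- `H` is generated by some `a`, `b`, and some pair of translation parts `v`, `w` is not the pair of values of a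
derivation at `a`, `b` (so `x ↦ a x + v`, `x ↦ b x + w` do not generate a complement of the translations). -/
def AffGood (H : Subgroup (Equiv.Perm V)) : Prop :=
  ∃ a b : Equiv.Perm V, closure ({a, b} : Set (Equiv.Perm V)) = H ∧ ∃ v w : V, ¬ ∃ z : Equiv.Perm V → V,
    (∀ g ∈ H, ∀ h ∈ H, z (g * h) = z g + g (z h)) ∧ z a = v ∧ z b = w

/-- `H` is a group of additive permutations of the elementary abelian `p`-group `V ≠ 0`, transitive on the non-zero
vectors. -/
structure Lin (p : ℕ) (H : Subgroup (Equiv.Perm V)) : Prop where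
  fin : Finite V
  prime : p.Prime
  add : ∀ h ∈ H, ∀ v w : V, h (v + w) = h v + h w
  tors : ∀ v : V, p • v = 0
  ne : ∃ v : V, v ≠ 0
  trans : ∀ v w : V, v ≠ 0 → w ≠ 0 → ∃ h ∈ H, h v = w

end Aff

/-- The transitive linear groups (the cases of Hering's theorem S3695 over the prime field). -/
structure AffRows : Prop where
  sl : ∀ (V : Type u) [AddCommGroup V] (p : ℕ) (H : Subgroup (Equiv.Perm V)), Lin p H →
    ∀ (a b : ℕ) (F : Type) [Field F] [Fintype F], Nat.card V = p ^ (a * b) → Fintype.card F = p ^ b → 2 ≤ a →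
      (∃ N : Subgroup ↥H, N.Normal ∧ Nonempty (↥N ≃* Matrix.SpecialLinearGroup (Fin a) F)) → AffGood H
  sp : ∀ (V : Type u) [AddCommGroup V] (p : ℕ) (H : Subgroup (Equiv.Perm V)), Lin p H →
    ∀ (m b : ℕ) (F : Type) [Field F] [Fintype F], Nat.card V = p ^ (2 * m * b) → Fintype.card F = p ^ b → 2 ≤ m →
      (∃ N : Subgroup ↥H, N.Normal ∧ Nonempty (↥N ≃* Matrix.symplecticGroup (Fin m) F)) → AffGood H
  g2 : ∀ (V : Type u) [AddCommGroup V] (H : Subgroup (Equiv.Perm V)), Lin 2 H →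
    ∀ (b : ℕ) (F : Type) [Field F] [Fintype F], Nat.card V = 2 ^ (6 * b) → Fintype.card F = 2 ^ b → 2 ≤ b →
      (∃ N : Subgroup ↥H, N.Normal ∧ Nonempty (↥N ≃* ↥(Cfsg.Lie.chevG2.group F))) → AffGood H
  u33 : ∀ (V : Type u) [AddCommGroup V] (H : Subgroup (Equiv.Perm V)), Lin 2 H → Nat.card V = 64 →
    ∀ (E : Type) [Field E] [Fintype E], Fintype.card E = 9 →
      (∃ N : Subgroup ↥H, N.Normal ∧ Nonempty (↥N ≃* Cfsg.PSU 3 E 3)) → AffGood H
  /-- semilinear maps of a field -/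
  one : ∀ (V : Type u) [AddCommGroup V] (p : ℕ) (H : Subgroup (Equiv.Perm V)), Lin p H →
    ∀ (F : Type) [Field F] (e : V ≃+ F), (∀ h ∈ H, ∃ (c : F) (σ : F ≃+* F), ∀ v : V, e (h v) = c * σ (e v)) →
      AffGood H
  quat : ∀ (V : Type u) [AddCommGroup V] (p : ℕ) (H : Subgroup (Equiv.Perm V)), Lin p H → Nat.card V = p ^ 2 →
    (p = 5 ∨ p = 7 ∨ p = 11 ∨ p = 23) → (∃ N : Subgroup ↥H, N.Normal ∧ Nonempty (↥N ≃* QuaternionGroup 2)) →
      AffGood H
  sl25 : ∀ (V : Type u) [AddCommGroup V] (p : ℕ) (H : Subgroup (Equiv.Perm V)), Lin p H → Nat.card V = p ^ 2 →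
    (p = 11 ∨ p = 19 ∨ p = 29 ∨ p = 59) →
      (∃ N : Subgroup ↥H, N.Normal ∧ Nonempty (↥N ≃* Matrix.SpecialLinearGroup (Fin 2) (ZMod 5))) → AffGood H
  a6 : ∀ (V : Type u) [AddCommGroup V] (H : Subgroup (Equiv.Perm V)), Lin 2 H → Nat.card V = 16 →
    Nonempty (↥H ≃* ↥(alternatingGroup (Fin 6))) → AffGood H
  a7 : ∀ (V : Type u) [AddCommGroup V] (H : Subgroup (Equiv.Perm V)), Lin 2 H → Nat.card V = 16 →
    Nonempty (↥H ≃* ↥(alternatingGroup (Fin 7))) → AffGood H
  ext32 : ∀ (V : Type u) [AddCommGroup V] (H : Subgroup (Equiv.Perm V)), Lin 3 H → Nat.card V = 81 →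
    (∃ N : Subgroup ↥H, N.Normal ∧ Nat.card N = 32 ∧ Nat.card H ∣ 32 * 120) → AffGood H
  sl25' : ∀ (V : Type u) [AddCommGroup V] (H : Subgroup (Equiv.Perm V)), Lin 3 H → Nat.card V = 81 →
    (∃ N : Subgroup ↥H, N.Normal ∧ Nonempty (↥N ≃* Matrix.SpecialLinearGroup (Fin 2) (ZMod 5))) → AffGood H
  sl213 : ∀ (V : Type u) [AddCommGroup V] (H : Subgroup (Equiv.Perm V)), Lin 3 H → Nat.card V = 3 ^ 6 →
    Nonempty (↥H ≃* Matrix.SpecialLinearGroup (Fin 2) (ZMod 13)) → AffGood H

/-- TASK: an affine 2-transitive group with good linear part is 2-generated. -/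
def AffineStep : Prop :=
  ∀ (G : Type u) (Ω : Type v) [Group G] [MulAction G Ω] (M : Subgroup G), Finite G → Finite Ω → FaithfulSMul G Ω →
    MulAction.IsMultiplyPretransitive G Ω 2 → M.Normal → M ≠ ⊥ → (∀ x ∈ M, ∀ y ∈ M, x * y = y * x) →
      (∀ (V : Type u) [AddCommGroup V] (p : ℕ) (H : Subgroup (Equiv.Perm V)), Lin p H → AffGood H) → TwoGen G

end Cfsg.Agent.H891.Gen
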