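import Mathlib

/-!
# TEAM GEN: the semilinear torus trick (helper891)

`K` contains `z` (a torus element times a field automorphism) and `u₀ * w` (`u₀` in the abelian root group `R`, `w`
monomial); `A = z w z⁻¹ w⁻¹` (a torus element) normalises `R` and commutes with `z A z⁻¹`.  If `R` has no proper
nontrivial subgroup invariant under `A` and `z`, and `C = z (u₀ w) z⁻¹ (u₀ w)⁻¹` does not commute with `z C z⁻¹`, then
`R ≤ K` and `w ∈ K`.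
-/

set_option autoImplicit false

namespace Cfsg.Agent.H891.Gen

open Subgroup

variable {Γ : Type*} [Group Γ]

/-- The semilinear torus trick, first form. -/
theorem root_le (K R : Subgroup Γ) {A z u : Γ} (hR : ∀ x ∈ R, ∀ y ∈ R, x * y = y * x)
    (hAu : A * u ∈ K) (hz : z ∈ K) (hu : u ∈ R)
    (hA : ∀ x, A * x * A⁻¹ ∈ R ↔ x ∈ R) (hzR : ∀ x, z * x * z⁻¹ ∈ R ↔ x ∈ R)
    (hcomm : A * (z * A * z⁻¹) = z * A * z⁻¹ * A)
    (hirr : ∀ S : Subgroup Γ, S ≤ R → (∀ x ∈ S, A * x * A⁻¹ ∈ S) → (∀ x ∈ S, z * x * z⁻¹ ∈ S) → S = ⊥ ∨ S = R)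
    (hne : (A * u) * (z * (A * u) * z⁻¹) ≠ z * (A * u) * z⁻¹ * (A * u)) : R ≤ K := by
  set A' := z * A * z⁻¹ with hA'
  set u' := z * u * z⁻¹ with hu'
  have hu'R : u' ∈ R := (hzR u).2 hu
  have hzi : ∀ x ∈ R, z⁻¹ * x * z ∈ R := by
    intro x hx
    rw [← hzR]
    have : z * (z⁻¹ * x * z) * z⁻¹ = x := by group
    rwa [this]
  have hAi : ∀ x ∈ R, A⁻¹ * x * A ∈ R := by
    intro x hx
    rw [← hA]
    have : A * (A⁻¹ * x * A) * A⁻¹ = x := by group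
    rwa [this]
  have hA'i : ∀ x ∈ R, A'⁻¹ * x * A' ∈ R := by
    intro x hx
    have h1 : A'⁻¹ * x * A' = z * (A⁻¹ * (z⁻¹ * x * z) * A) * z⁻¹ := by rw [hA']; group
    rw [h1, hzR]
    exact hAi _ (hzi x hx)
  have hA'R : ∀ x ∈ R, A' * x * A'⁻¹ ∈ R := by
    intro x hx
    have h1 : A' * x * A'⁻¹ = z * (A * (z⁻¹ * x * z) * A⁻¹) * z⁻¹ := by rw [hA']; group
    rw [h1, hzR, hA]
    exact hzi x hx
  have hzz : z * (A * u) * z⁻¹ = A' * u' := by rw [hA', hu']; group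
  have hK' : A' * u' ∈ K := by
    rw [← hzz]
    exact K.mul_mem (K.mul_mem hz hAu) (K.inv_mem hz)
  rw [hzz] at hne
  -- the commutator
  set e := (A * u) * (A' * u') * ((A' * u') * (A * u))⁻¹ with he
  have heK : e ∈ K := K.mul_mem (K.mul_mem hAu hK') (K.inv_mem (K.mul_mem hK' hAu))
  have he1 : e ≠ 1 := fun h => hne (by rw [he, mul_inv_eq_one] at h; exact h)
  have heR : e ∈ R := by
    have h1 : e = (A * (A' * ((A'⁻¹ * u * A') * u' * ((A⁻¹ * u' * A) * u)⁻¹) * A'⁻¹) * A⁻¹) := by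
      rw [he]
      have h2 : (A' * u') * (A * u) = A * A' * ((A⁻¹ * u' * A) * u) := by
        rw [hcomm]; group
      rw [h2]
      group
    rw [h1, hA]
    apply hA'R
    exact R.mul_mem (R.mul_mem (hA'i u hu) hu'R) (R.inv_mem (R.mul_mem (hAi u' hu'R) hu))
  rcases hirr (R ⊓ K) inf_le_left (by
      intro x hx
      refine ⟨(hA x).2 hx.1, ?_⟩
      have h1 : A * x * A⁻¹ = (A * u) * x * (A * u)⁻¹ := by
        have h2 : u * x * u⁻¹ = x := by rw [hR u hu x hx.1, mul_inv_cancel_right]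
        calc A * x * A⁻¹ = A * (u * x * u⁻¹) * A⁻¹ := by rw [h2]
          _ = (A * u) * x * (A * u)⁻¹ := by group
      rw [h1]
      exact K.mul_mem (K.mul_mem hAu hx.2) (K.inv_mem hAu)) (by
      intro x hx
      exact ⟨(hzR x).2 hx.1, K.mul_mem (K.mul_mem hz hx.2) (K.inv_mem hz)⟩) with h | h
  · exfalso
    apply he1
    have h1 : e ∈ R ⊓ K := ⟨heR, heK⟩
    rwa [h, mem_bot] at h1
  · rw [← h]
    exact inf_le_right

/-- The semilinear torus trick, second form: `K ∋ z, u₀ w`. -/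
theorem trick (K R : Subgroup Γ) {z u₀ w : Γ} (hR : ∀ x ∈ R, ∀ y ∈ R, x * y = y * x)
    (hz : z ∈ K) (huw : u₀ * w ∈ K) (hu : u₀ ∈ R)
    (hA : ∀ x, (z * w * z⁻¹ * w⁻¹) * x * (z * w * z⁻¹ * w⁻¹)⁻¹ ∈ R ↔ x ∈ R) (hzR : ∀ x, z * x * z⁻¹ ∈ R ↔ x ∈ R)
    (hcomm : (z * w * z⁻¹ * w⁻¹) * (z * (z * w * z⁻¹ * w⁻¹) * z⁻¹) =
      z * (z * w * z⁻¹ * w⁻¹) * z⁻¹ * (z * w * z⁻¹ * w⁻¹))
    (hirr : ∀ S : Subgroup Γ, S ≤ R → (∀ x ∈ S, (z * w * z⁻¹ * w⁻¹) * x * (z * w * z⁻¹ * w⁻¹)⁻¹ ∈ S) →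
      (∀ x ∈ S, z * x * z⁻¹ ∈ S) → S = ⊥ ∨ S = R)
    (hne : (z * (u₀ * w) * z⁻¹ * (u₀ * w)⁻¹) * (z * (z * (u₀ * w) * z⁻¹ * (u₀ * w)⁻¹) * z⁻¹) ≠
      z * (z * (u₀ * w) * z⁻¹ * (u₀ * w)⁻¹) * z⁻¹ * (z * (u₀ * w) * z⁻¹ * (u₀ * w)⁻¹)) :
    R ≤ K ∧ w ∈ K := by
  set A := z * w * z⁻¹ * w⁻¹ with hAdef
  have hC : z * (u₀ * w) * z⁻¹ * (u₀ * w)⁻¹ = A * ((A⁻¹ * (z * u₀ * z⁻¹) * A) * u₀⁻¹) := by
    rw [hAdef]; group
  have hCK : z * (u₀ * w) * z⁻¹ * (u₀ * w)⁻¹ ∈ K :=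
    K.mul_mem (K.mul_mem (K.mul_mem hz huw) (K.inv_mem hz)) (K.inv_mem huw)
  rw [hC] at hCK hne
  have h1 : R ≤ K := by
    refine root_le K R hR hCK hz ?_ hA hzR hcomm hirr hne
    refine R.mul_mem ?_ (R.inv_mem hu)
    rw [← hA]
    have : A * (A⁻¹ * (z * u₀ * z⁻¹) * A) * A⁻¹ = z * u₀ * z⁻¹ := by group
    rw [this, hzR]
    exact hu
  refine ⟨h1, ?_⟩
  have h2 := K.mul_mem (K.inv_mem (h1 hu)) huw
  rwa [inv_mul_cancel_left] at h2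

end Cfsg.Agent.H891.Gen
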