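import Cfsg.Agent.H891.Gen.Trick

/-!
# TEAM GEN: the semilinear torus trick for a root group parametrised by a field (helper891)

* `ebr σ P κ β` : the bracket `e(β)`; `trick_field` : `x(F) ≤ K` and `w ∈ K` if `e(β) ≠ 0` and `a` generates `F`;
* `exists_ebr_of_three` (`σ² ≠ 1`), `exists_ebr_of_two` (`σ² = 1 ≠ σ`, `P σ(P) ≠ 1`), `ebr_of_one` (`σ = 1`).
-/

set_option autoImplicit false

namespace Cfsg.Agent.H891.Gen

open Subgroup

section field

variable {F : Type*} [Field F]

/-- the bracket `e(β)` with `P = a⁻¹` -/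
def ebr (σ : F ≃+* F) (P κ β : F) : F :=
  (σ P - 1) * (P * κ * σ β - β) - (P - 1) * κ * σ (P * κ * σ β - β)

theorem ebr_eq (σ : F ≃+* F) (P κ β : F) :
    ebr σ P κ β = -(P - 1) * κ * σ κ * σ P * σ (σ β) + κ * (P * σ P - 1) * σ β - (σ P - 1) * β := by
  unfold ebr
  rw [map_sub, map_mul, map_mul]
  ring

theorem ebr_of_one (P κ β : F) (hP : P ≠ 1) (hκ : κ ≠ 1) (hPκ : P * κ ≠ 1) (hβ : β ≠ 0) :
    ebr (1 : F ≃+* F) P κ β ≠ 0 := by
  have h1 : ebr (1 : F ≃+* F) P κ β = -((P - 1) * (κ - 1) * (P * κ - 1) * β) := by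
    rw [ebr_eq]
    simp only [RingAut.one_apply]
    ring
  rw [h1, neg_ne_zero]
  exact mul_ne_zero (mul_ne_zero (mul_ne_zero (sub_ne_zero.2 hP) (sub_ne_zero.2 hκ)) (sub_ne_zero.2 hPκ)) hβ

theorem exists_ebr_of_three (σ : F ≃+* F) (h1 : σ ≠ 1) (h2 : σ * σ ≠ 1) (P κ : F) (hP : P ≠ 1) :
    ∃ β : F, ebr σ P κ β ≠ 0 := by
  classical
  by_contra hcon
  push Not at hcon
  -- independence of the characters `1, σ, σ²`
  let χ : F ≃+* F → (F →* F) := fun τ => (τ : F →* F)
  have hinj : Function.Injective χ := by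
    intro τ τ' h
    ext t
    exact DFunLike.congr_fun h t
  have hli := linearIndependent_monoidHom F F
  have hli2 : LinearIndependent F (fun τ : F ≃+* F => ((χ τ : F →* F) : F → F)) := hli.comp χ hinj
  rw [linearIndependent_iff'] at hli2
  set c : (F ≃+* F) → F := fun τ => if τ = 1 then -(σ P - 1) else if τ = σ then κ * (P * σ P - 1)
    else -(P - 1) * κ * σ κ * σ P with hc
  have hs : ∑ τ ∈ ({1, σ, σ * σ} : Finset (F ≃+* F)), c τ • ((χ τ : F →* F) : F → F) = 0 := by
    rw [Finset.sum_insert, Finset.sum_insert, Finset.sum_singleton]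
    · ext β
      have h3 := hcon β
      rw [ebr_eq] at h3
      have e1 : c 1 = -(σ P - 1) := by simp [hc]
      have e2 : c σ = κ * (P * σ P - 1) := by simp [hc, h1]
      have hss : σ * σ ≠ σ := by
        intro h
        exact h1 (mul_left_cancel (a := σ) (by rw [h, mul_one]))
      have e3 : c (σ * σ) = -(P - 1) * κ * σ κ * σ P := by simp [hc, h2, hss]
      simp only [Pi.add_apply, Pi.smul_apply, smul_eq_mul, Pi.zero_apply, e1, e2, e3]
      show -(σ P - 1) * β + (κ * (P * σ P - 1) * σ β + -(P - 1) * κ * σ κ * σ P * σ (σ β)) = 0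
      rw [← h3]
      ring
    · rw [Finset.mem_singleton]
      intro h
      exact h1 (mul_left_cancel (a := σ) (by rw [← h, mul_one]))
    · rw [Finset.mem_insert, Finset.mem_singleton]
      rintro (h | h)
      · exact h1 h.symm
      · exact h2 h.symm
  have h4 := hli2 _ c hs 1 (by simp)
  have e1 : c 1 = -(σ P - 1) := by simp [hc]
  rw [e1, neg_eq_zero, sub_eq_zero] at h4
  exact hP (σ.injective (by rw [h4, map_one]))

theorem exists_ebr_of_two (σ : F ≃+* F) (h1 : σ ≠ 1) (h2 : σ * σ = 1) (P κ : F) (hκ : κ ≠ 0) (hP : P * σ P ≠ 1) :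
    ∃ β : F, ebr σ P κ β ≠ 0 := by
  classical
  by_contra hcon
  push Not at hcon
  let χ : F ≃+* F → (F →* F) := fun τ => (τ : F →* F)
  have hinj : Function.Injective χ := by
    intro τ τ' h
    ext t
    exact DFunLike.congr_fun h t
  have hli := linearIndependent_monoidHom F F
  have hli2 : LinearIndependent F (fun τ : F ≃+* F => ((χ τ : F →* F) : F → F)) := hli.comp χ hinj
  rw [linearIndependent_iff'] at hli2
  set c : (F ≃+* F) → F := fun τ => if τ = 1 then -(σ P - 1) - (P - 1) * κ * σ κ * σ P else κ * (P * σ P - 1) with hc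
  have hs : ∑ τ ∈ ({1, σ} : Finset (F ≃+* F)), c τ • ((χ τ : F →* F) : F → F) = 0 := by
    rw [Finset.sum_insert, Finset.sum_singleton]
    · ext β
      have h3 := hcon β
      rw [ebr_eq] at h3
      have e1 : c 1 = -(σ P - 1) - (P - 1) * κ * σ κ * σ P := by simp [hc]
      have e2 : c σ = κ * (P * σ P - 1) := by simp [hc, h1]
      have h5 : σ (σ β) = β := by
        have := DFunLike.congr_fun h2 β
        simpa using this
      simp only [Pi.add_apply, Pi.smul_apply, smul_eq_mul, Pi.zero_apply, e1, e2]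
      show (-(σ P - 1) - (P - 1) * κ * σ κ * σ P) * β + κ * (P * σ P - 1) * σ β = 0
      rw [h5] at h3
      rw [← h3]
      ring
    · rw [Finset.mem_singleton]
      exact fun h => h1 h.symm
  have h4 := hli2 _ c hs σ (by simp)
  have e2 : c σ = κ * (P * σ P - 1) := by simp [hc, h1]
  rw [e2, mul_eq_zero, sub_eq_zero] at h4
  rcases h4 with h4 | h4
  · exact hκ h4
  · exact hP h4

/-- An additive subgroup stable under multiplication by a generator of the multiplicative group. -/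
theorem addSubgroup_of_gen {a : F} (ha : ∀ t : F, t ≠ 0 → ∃ n : ℕ, a ^ n = t) (S : AddSubgroup F)
    (hS : ∀ t ∈ S, a * t ∈ S) : S = ⊥ ∨ S = ⊤ := by
  by_cases h : S = ⊥
  · exact Or.inl h
  · right
    obtain ⟨s, hs, hs0⟩ : ∃ s ∈ S, s ≠ 0 := by
      by_contra hcon
      push Not at hcon
      exact h ((AddSubgroup.eq_bot_iff_forall S).2 hcon)
    rw [eq_top_iff]
    intro t _
    by_cases ht : t = 0
    · rw [ht]; exact S.zero_mem
    · obtain ⟨n, hn⟩ := ha (t / s) (div_ne_zero ht hs0)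
      have h1 : ∀ n : ℕ, a ^ n * s ∈ S := by
        intro n
        induction n with
        | zero => simpa using hs
        | succ n ih =>
          have := hS _ ih
          rwa [← mul_assoc, ← pow_succ'] at this
      have h2 := h1 n
      rwa [hn, div_mul_cancel₀ _ hs0] at h2

end field

section group

variable {Γ : Type*} [Group Γ] {F : Type*} [Field F]

/-- The semilinear torus trick for a root group parametrised by a field. -/
theorem trick_field (K : Subgroup Γ) (x : F → Γ) (hx : ∀ s t, x (s + t) = x s * x t) (hinj : ∀ t, x t = 1 → t = 0)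
    (σ : F ≃+* F) {κ a β : F} (hκ : κ ≠ 0) (ha : a ≠ 0) {z w : Γ}
    (hzx : ∀ t, z * x t * z⁻¹ = x (κ * σ t))
    (hAx : ∀ t, (z * w * z⁻¹ * w⁻¹) * x t * (z * w * z⁻¹ * w⁻¹)⁻¹ = x (a * t))
    (hcomm : (z * w * z⁻¹ * w⁻¹) * (z * (z * w * z⁻¹ * w⁻¹) * z⁻¹) =
      z * (z * w * z⁻¹ * w⁻¹) * z⁻¹ * (z * w * z⁻¹ * w⁻¹))
    (hgen : ∀ S : AddSubgroup F, (∀ t ∈ S, a * t ∈ S) → (∀ t ∈ S, κ * σ t ∈ S) → S = ⊥ ∨ S = ⊤)
    (he : ebr σ a⁻¹ κ β ≠ 0) (hz : z ∈ K) (huw : x β * w ∈ K) : (∀ t, x t ∈ K) ∧ w ∈ K := by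
  have hx0 : x 0 = 1 := by
    have h := hx 0 0
    rw [add_zero] at h
    exact mul_left_cancel (a := x 0) (by rw [mul_one]; exact h.symm)
  have hneg : ∀ t, x (-t) = (x t)⁻¹ := by
    intro t
    rw [eq_inv_iff_mul_eq_one, ← hx, neg_add_cancel, hx0]
  have hxinj : ∀ s t, x s = x t → s = t := by
    intro s t h
    have h1 : x (s + -t) = 1 := by rw [hx, hneg, h, mul_inv_cancel]
    have h2 := hinj _ h1
    rwa [← sub_eq_add_neg, sub_eq_zero] at h2
  let R : Subgroup Γ :=
    { carrier := Set.range x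
      one_mem' := ⟨0, hx0⟩
      mul_mem' := by
        rintro _ _ ⟨s, rfl⟩ ⟨t, rfl⟩
        exact ⟨s + t, hx s t⟩
      inv_mem' := by
        rintro _ ⟨s, rfl⟩
        exact ⟨-s, hneg s⟩ }
  have hR : ∀ y, y ∈ R ↔ ∃ t, x t = y := fun y => Iff.rfl
  have hRmem : ∀ t, x t ∈ R := fun t => ⟨t, rfl⟩
  have hRc : ∀ y ∈ R, ∀ y' ∈ R, y * y' = y' * y := by
    rintro _ ⟨s, rfl⟩ _ ⟨t, rfl⟩
    rw [← hx, ← hx, add_comm]
  set A := z * w * z⁻¹ * w⁻¹ with hAdef
  have hARiff : ∀ y, A * y * A⁻¹ ∈ R ↔ y ∈ R := by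
    intro y
    constructor
    · rintro ⟨s, hs⟩
      refine ⟨a⁻¹ * s, ?_⟩
      have h1 := hAx (a⁻¹ * s)
      rw [mul_inv_cancel_left₀ ha, hs] at h1
      exact mul_left_cancel (mul_right_cancel h1)
    · rintro ⟨s, rfl⟩
      exact ⟨a * s, (hAx s).symm⟩
  have hzRiff : ∀ y, z * y * z⁻¹ ∈ R ↔ y ∈ R := by
    intro y
    constructor
    · rintro ⟨s, hs⟩
      refine ⟨σ.symm (κ⁻¹ * s), ?_⟩
      have h1 := hzx (σ.symm (κ⁻¹ * s))
      rw [σ.apply_symm_apply, mul_inv_cancel_left₀ hκ, hs] at h1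
      exact mul_left_cancel (mul_right_cancel h1)
    · rintro ⟨s, rfl⟩
      exact ⟨κ * σ s, (hzx s).symm⟩
  have key := trick K R (z := z) (u₀ := x β) (w := w) hRc hz huw (hRmem β) hARiff hzRiff hcomm ?_ ?_
  · exact ⟨fun t => key.1 (hRmem t), key.2⟩
  · -- irreducibility
    intro S hSR hSA hSz
    let S' : AddSubgroup F :=
      { carrier := {t | x t ∈ S}
        zero_mem' := by show x 0 ∈ S; rw [hx0]; exact S.one_mem
        add_mem' := by
          intro s t hs ht
          show x (s + t) ∈ S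
          rw [hx]
          exact S.mul_mem hs ht
        neg_mem' := by
          intro s hs
          show x (-s) ∈ S
          rw [hneg]
          exact S.inv_mem hs }
    have hS' : ∀ t, t ∈ S' ↔ x t ∈ S := fun t => Iff.rfl
    rcases hgen S' (fun t ht => by rw [hS', ← hAx]; exact hSA _ ht) (fun t ht => by
      rw [hS', ← hzx]; exact hSz _ ht) with h | h
    · left
      rw [eq_bot_iff]
      intro y hy
      obtain ⟨t, rfl⟩ := hSR hy
      have h1 : t ∈ S' := hy
      rw [h, AddSubgroup.mem_bot] at h1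
      rw [h1, hx0, mem_bot]
    · right
      refine le_antisymm hSR ?_
      rintro _ ⟨t, rfl⟩
      have h1 : t ∈ S' := by rw [h]; trivial
      exact h1
  · -- the commutator is not trivial
    intro hcon
    apply he
    set P := a⁻¹ with hP
    have hAx' : ∀ t, A⁻¹ * x t * A = x (P * t) := by
      intro t
      have h1 := hAx (P * t)
      rw [hP, mul_inv_cancel_left₀ ha] at h1
      rw [hP, ← h1]
      group
    set c := P * κ * σ β - β with hc
    have hC : z * (x β * w) * z⁻¹ * (x β * w)⁻¹ = A * x c := by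
      have h1 : z * (x β * w) * z⁻¹ * (x β * w)⁻¹ = A * ((A⁻¹ * (z * x β * z⁻¹) * A) * (x β)⁻¹) := by
        rw [hAdef]; group
      rw [h1, hzx, hAx', ← hneg, ← hx, hc]
      congr 2
      ring
    have hzC : z * (A * x c) * z⁻¹ = (z * A * z⁻¹) * x (κ * σ c) := by
      rw [← hzx]; group
    -- `z A z⁻¹` acts on the root group as multiplication by `σ a`
    have hA'x : ∀ t, (z * A * z⁻¹)⁻¹ * x t * (z * A * z⁻¹) = x (σ P * t) := by
      intro t
      have h1 : x t = z * x (σ.symm (κ⁻¹ * t)) * z⁻¹ := by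
        rw [hzx, σ.apply_symm_apply, mul_inv_cancel_left₀ hκ]
      have h2 : (z * A * z⁻¹)⁻¹ * x t * (z * A * z⁻¹) = z * (A⁻¹ * x (σ.symm (κ⁻¹ * t)) * A) * z⁻¹ := by
        rw [h1]; group
      rw [h2, hAx', hzx, map_mul, σ.apply_symm_apply]
      congr 1
      field_simp
    rw [hC, hzC] at hcon
    have h3 : A * x c * ((z * A * z⁻¹) * x (κ * σ c)) =
        A * (z * A * z⁻¹) * x (σ P * c + κ * σ c) := by
      rw [hx, ← hA'x c]; group
    have h4 : (z * A * z⁻¹) * x (κ * σ c) * (A * x c) =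
        (z * A * z⁻¹) * A * x (P * (κ * σ c) + c) := by
      rw [hx, ← hAx']; group
    rw [h3, h4, hcomm] at hcon
    have h5 := hxinj _ _ (mul_left_cancel hcon)
    unfold ebr
    rw [← hc]
    linear_combination h5

end group

end Cfsg.Agent.H891.Gen
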